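import Groth.Agent.ResDesc.AmpleFam
import Groth.Agent.S8914

/-!
Ample families from effective Cartier divisors with ample complements.
-/

set_option autoImplicit false
set_option backward.isDefEq.respectTransparency false

universe u

open CategoryTheory CategoryTheory.Limits AlgebraicGeometry TopologicalSpace Opposite
open Groth.Agent.QC (res resO res_res res_self res_smul resO_resO app_res)

noncomputable section

namespace Groth.Agent.ResDesc

variable {X : Scheme.{u}}

theorem unitorR_tm (F : X.Modules) {U : X.Opens} (t : Γ(F, U)) (r : Γ(X, U)) :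
    (SecTwist.unitorR F).hom.app U (TMul.tm t (r : Γ(Coh.structureModule X, U))) = r • t :=
  SecTwist.unitorR_tmul F U t r

/-- The value of `O ⟶ N ⊗ J ⟶ N ⊗ O ⟶ N` in terms of generators. -/
theorem val_twist_section {J N : X.Modules} (i : J ⟶ Coh.structureModule X)
    (e : CohB1.tensorMod N J ≅ Coh.structureModule X) (σ : Coh.structureModule X ⟶ N)
    (hσ : σ = e.inv ≫ ((DCoh.tensorBi (X := X)).obj N).map i ≫ (SecTwist.unitorR N).hom)
    {D : X.Opens} {g : Γ(J, D)} {g' : Γ(N, D)} (hg : TMul.IsGen g) (hg' : TMul.IsGen g')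
    {f : Γ(X, D)} (hf : f = i.app D g) :
    ∃ d : Γ(X, D), IsUnit d ∧ TMul.val σ D = (d * f) • g' := by
  subst hσ
  obtain ⟨d, hd⟩ := (TMul.isGen_tm hg' hg D le_rfl).2 (e.inv.app D (1 : Γ(X, D)))
  simp only [res_self] at hd
  refine ⟨d, ?_, ?_⟩
  · have h1 : e.hom.app D (e.inv.app D (1 : Γ(X, D))) = (1 : Γ(X, D)) :=
      congrArg (fun φ : Coh.structureModule X ⟶ Coh.structureModule X => φ.app D (1 : Γ(X, D))) e.inv_hom_id
    rw [← hd, Scheme.Modules.Hom.app_smul] at h1
    exact IsUnit.of_mul_eq_one (show Γ(X, D) from e.hom.app D (TMul.tm g' g)) h1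
  · change (SecTwist.unitorR N).hom.app D ((((DCoh.tensorBi (X := X)).obj N).map i).app D
      (e.inv.app D (1 : Γ(X, D)))) = _
    rw [← hd, mul_smul]
    refine ((congrArg ((SecTwist.unitorR N).hom.app D)
      ((Scheme.Modules.Hom.app_smul (((DCoh.tensorBi (X := X)).obj N).map i) d (TMul.tm g' g)).trans
        (congrArg (d • ·) (W7Hull.map_tm N i g' g)))).trans
      (Scheme.Modules.Hom.app_smul _ d _)).trans ?_
    rw [hf]
    exact congrArg (d • ·) (unitorR_tm N g' _)

theorem ideal_eq_span_of_isGen (I : X.IdealSheafData) {D : X.Opens} (hD : IsAffineOpen D)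
    {g : Γ(ClSub.idealMod I, D)} (hg : TMul.IsGen g) {f : Γ(X, D)} (hf : f = (ClSub.idealModι I).app D g) :
    I.ideal ⟨D, hD⟩ = Ideal.span {f} := by
  ext t
  rw [Ideal.mem_span_singleton', ← QC.mem_range_idealModι_affine I ⟨D, hD⟩ t]
  have happ : ∀ c : Γ(X, D), (show Γ(X, D) from (ClSub.idealModι I).app D (c • g)) = c * f := fun c => by
    rw [hf]; exact Scheme.Modules.Hom.app_smul (ClSub.idealModι I) c g
  constructor
  · rintro ⟨m, rfl⟩
    obtain ⟨c, rfl⟩ := (hg D le_rfl).2 m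
    refine ⟨c, (happ c).symm.trans ?_⟩
    rw [res_self]
  · rintro ⟨c, rfl⟩
    exact ⟨c • g, happ c⟩

theorem exists_section_of_inverse (I : X.IdealSheafData) (hI : BlowUp.IsEffCartierIdeal I) {N : X.Modules}
    (hN : PicF.IsInvertible N) (e : CohB1.tensorMod N (ClSub.idealMod I) ≅ Coh.structureModule X) :
    ∃ σ : Coh.structureModule X ⟶ N, CohB1.genLocus N σ = I.support.compl := by
  have hJ := (Groth.Agent.S8914.result I).mpr hI
  obtain ⟨σ, hσ⟩ : ∃ σ : Coh.structureModule X ⟶ N, σ = e.inv ≫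
      ((DCoh.tensorBi (X := X)).obj N).map (ClSub.idealModι I) ≫ (SecTwist.unitorR N).hom := ⟨_, rfl⟩
  refine ⟨σ, ?_⟩
  ext x
  obtain ⟨U, g, hxU, hg⟩ := TMul.exists_isGen hJ x
  obtain ⟨U', g', hxU', hg'⟩ := TMul.exists_isGen hN x
  obtain ⟨D, hD, hxD, hDU⟩ := exists_isAffineOpen_mem_and_subset (x := x) (U := U ⊓ U') ⟨hxU, hxU'⟩
  replace hDU : D ≤ U ⊓ U' := hDU
  obtain ⟨f, hf⟩ : ∃ f : Γ(X, D), f = (ClSub.idealModι I).app D (res _ (hDU.trans inf_le_left) g) := ⟨_, rfl⟩
  obtain ⟨d, hd, hval⟩ := val_twist_section _ _ σ hσ (hg.res (hDU.trans inf_le_left))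
    (hg'.res (hDU.trans inf_le_right)) hf
  rw [SetLike.mem_coe, SetLike.mem_coe, TMul.mem_genLocus_iff_isUnit σ (hg'.res (hDU.trans inf_le_right)) hval hxD,
    map_mul, IsUnit.mul_iff, and_iff_right (hd.map _), ← X.mem_basicOpen f x hxD]
  show _ ↔ x ∉ I.support
  rw [Scheme.IdealSheafData.mem_support_iff_of_mem (U := ⟨D, hD⟩) hxD,
    ideal_eq_span_of_isGen I hD (hg.res (hDU.trans inf_le_left)) hf, Scheme.zeroLocus_span,
    Scheme.mem_zeroLocus_iff]
  simp

theorem exists_locus_section (I : X.IdealSheafData) (hI : BlowUp.IsEffCartierIdeal I) :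
    ∃ (N : X.Modules) (σ : Coh.structureModule X ⟶ N),
      PicF.IsInvertible N ∧ CohB1.genLocus N σ = I.support.compl := by
  obtain ⟨N, hN, ⟨e₀⟩⟩ := W7Hull.exists_tensor_inverse ((Groth.Agent.S8914.result I).mpr hI)
  obtain ⟨σ, hσ⟩ := exists_section_of_inverse I hI hN (TMul.commIso N _ ≪≫ e₀)
  exact ⟨N, σ, hN, hσ⟩

theorem hasAmpleFamily_of_cartier_cover {m : ℕ} (D : Fin m → X.IdealSheafData)
    (hD : ∀ i, BlowUp.IsEffCartierIdeal (D i)) (hcap : ⋂ i, ((D i).support : Set X) = ∅)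
    (L : Fin m → X.Modules) (hL : ∀ i, PicF.IsInvertible (L i))
    (hamp : ∀ i, CohB1.IsAmple ((L i).restrict (Scheme.Opens.ι (D i).support.compl))) :
    MoreMor.HasAmpleFamily X := by
  classical
  choose N σ hN hσ using fun i => exists_locus_section (D i) (hD i)
  have hcov : ∀ x : X, ∃ i, x ∈ (D i).support.compl := fun x => by
    by_contra! h
    have : x ∈ ⋂ i, ((D i).support : Set X) := Set.mem_iInter.mpr fun i => not_not.mp (h i)
    rw [hcap] at this
    exact this
  have hcU : ∀ i, IsCompact (((D i).support.compl : X.Opens) : Set X) := fun i =>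
    isCompact_iff_compactSpace.mpr (hamp i).2.1
  haveI : CompactSpace X := ⟨by
    rw [show (Set.univ : Set X) = ⋃ i, (((D i).support.compl : X.Opens) : Set X) from
      (Set.eq_univ_of_forall fun x => Set.mem_iUnion.mpr (hcov x)).symm]
    exact isCompact_iUnion hcU⟩
  haveI : QuasiSeparatedSpace X := (quasiSeparatedSpace_iff_forall_affineOpens).2 fun A B => by
    have e : (A : Set X) ∩ B = ⋃ i, ((A.1 ⊓ (D i).support.compl : X.Opens) : Set X) ∩
        ((B.1 ⊓ (D i).support.compl : X.Opens) : Set X) := by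
      ext y
      refine ⟨fun hy => ?_, fun hy => ?_⟩
      · obtain ⟨i, hi⟩ := hcov y
        exact Set.mem_iUnion.mpr ⟨i, ⟨hy.1, hi⟩, ⟨hy.2, hi⟩⟩
      · obtain ⟨i, h1, h2⟩ := Set.mem_iUnion.mp hy
        exact ⟨h1.1, h2.1⟩
    rw [e]
    refine isCompact_iUnion fun i => ?_
    haveI := TMul.isSeparated_of_isAmple (hamp i)
    have hq : IsQuasiSeparated (((D i).support.compl : X.Opens) : Set X) :=
      (isQuasiSeparated_iff_quasiSeparatedSpace _ ((D i).support.compl : X.Opens).isOpen).mpr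
        (inferInstanceAs (QuasiSeparatedSpace (Scheme.Opens.toScheme (D i).support.compl)))
    refine hq _ _ inf_le_right (Opens.isOpen _) ?_ inf_le_right (Opens.isOpen _) ?_
    · rw [← hσ i]; exact (TMul.isAffineOpen_inf_genLocus (hN i) (σ i) A.2).isCompact
    · rw [← hσ i]; exact (TMul.isAffineOpen_inf_genLocus (hN i) (σ i) B.2).isCompact
  refine ⟨inferInstance, fun x => ?_⟩
  obtain ⟨i, hi⟩ := hcov x
  obtain ⟨b, s, hxs, hs⟩ := (hamp i).2.2 ⟨x, hi⟩
  obtain ⟨e⟩ := TMul.nonempty_restrictPowIso (Scheme.Opens.ι (D i).support.compl) (L i) (b + 1)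
  obtain ⟨k, hk⟩ := TMul.exists_genLocus_extend_pow (TMul.isInvertible_tensorPow (hL i) (b + 1)) (hN i)
    (σ i) (hσ i) (s ≫ e.hom)
  obtain ⟨t, ht⟩ := hk k le_rfl
  rw [TMul.genLocus_comp s e.hom] at ht
  refine ⟨CohB1.tensorMod (CohB1.tensorPow (L i) (b + 1)) (CohB1.tensorPow (N i) k), 1,
    t ≫ (TMul.leftUnitIso _).inv,
    TMul.isInvertible_tensorMod (TMul.isInvertible_tensorPow (hL i) _) (TMul.isInvertible_tensorPow (hN i) k),
    le_rfl, ?_, ?_⟩
  · exact (TMul.genLocus_comp t (TMul.leftUnitIso _).inv).ge (ht.le ⟨_, hxs, rfl⟩)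
  · exact ((TMul.genLocus_comp t (TMul.leftUnitIso _).inv).trans ht.symm) ▸ hs.image_of_isOpenImmersion _

end Groth.Agent.ResDesc
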