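import Groth.Agent.ResDesc.Main
import Groth.Agent.TMul.GlobGen
import Groth.Agent.QC.FTIdeal

/-!
The resolution property: schemes with an ample module, affine morphisms.
-/

set_option autoImplicit false
set_option backward.isDefEq.respectTransparency false

universe u

open CategoryTheory CategoryTheory.Limits AlgebraicGeometry TopologicalSpace Opposite
open Groth.Agent.QC (res resO res_res res_self res_smul resO_resO app_res)

noncomputable section

namespace Groth.Agent.ResDesc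

variable {X Y : Scheme.{u}}

/-- A morphism hitting generators over an affine cover is an epimorphism. -/
theorem cancel_zero_of_span {M N : X.Modules} (hM : Coh.IsQCoh M) {ι : Type*} (V : ι → X.Opens)
    (hV : ∀ i, IsAffineOpen (V i)) (hcov : ∀ x : X, ∃ i, x ∈ V i) (T : ∀ i, Set Γ(M, V i))
    (hT : ∀ i, Submodule.span Γ(X, V i) (T i) = ⊤) (g : M ⟶ N)
    (hg : ∀ i, ∀ t ∈ T i, g.app (V i) t = 0) : g = 0 := by
  refine Scheme.Modules.hom_ext _ _ fun W => ?_
  ext s
  refine QC.section_eq_of_locally fun y hy => ?_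
  obtain ⟨i, hyi⟩ := hcov y
  obtain ⟨f, hf, hyf⟩ := (hV i).exists_basicOpen_le ⟨y, hy⟩ hyi
  haveI : M.IsQuasicoherent := hM
  have hmem := QC.mem_span_basicOpen (hV i) f (hT i) (res M hf s)
  refine ⟨X.basicOpen f, hf, hyf, ?_⟩
  rw [app_res, app_res]
  generalize res M hf s = w at hmem ⊢
  induction hmem using Submodule.span_induction with
  | mem z hz =>
    obtain ⟨t, ht, rfl⟩ := hz
    rw [← app_res, hg i t ht, map_zero]
    rfl
  | zero => rw [map_zero]; rfl
  | add a b _ _ ha hb => rw [map_add, ha, hb]; exact (add_zero _).trans rfl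
  | smul c a _ ha => rw [Scheme.Modules.Hom.app_smul, ha]; exact (smul_zero c).trans rfl

theorem isFinLocFree_of_isInvertible {L : X.Modules} (hL : PicF.IsInvertible L) : FlatMod.IsFinLocFree L :=
  fun x => by
    obtain ⟨U, hx, ⟨φ⟩⟩ := hL x
    exact ⟨U, 1, hx, ⟨φ ≪≫ (coproductUniqueIso fun _ : Fin 1 => Coh.structureModule (U : Scheme.{u})).symm⟩⟩

theorem epi_evDual_of_isInvertible {P : X.Modules} (hP : PicF.IsInvertible P) : Epi (evDual P) := by
  refine epi_evDual fun x => ?_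
  obtain ⟨U, n, e, hxU, he⟩ := TMul.exists_isFrame (isFinLocFree_of_isInvertible hP) x
  cases n with
  | succ m => exact ⟨U, m, e, hxU, he⟩
  | zero =>
    exfalso
    obtain ⟨W, g, hxW, hg⟩ := TMul.exists_isGen hP x
    obtain ⟨c, hc⟩ := he.comb_surjective (inf_le_left : U ⊓ W ≤ U) (res P inf_le_right g)
    have h0 : res P (inf_le_right : U ⊓ W ≤ W) g = 0 := hc.symm.trans (by simp)
    have h1 : (1 : Γ(X, U ⊓ W)) = 0 := (hg (U ⊓ W) inf_le_right).1 (by simp [h0])
    have := X.basicOpen_of_isUnit (isUnit_one (M := Γ(X, U ⊓ W)))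
    rw [h1, Scheme.basicOpen_zero] at this
    exact this.ge (show x ∈ U ⊓ W from ⟨hxU, hxW⟩)

theorem hasResolutionProperty_of_isAmple (L : X.Modules) (hL : CohB1.IsAmple L) :
    PerfAux.HasResolutionProperty X := by
  classical
  intro F hF hFT
  haveI : F.IsQuasicoherent := hF
  haveI := hL.2.1
  obtain ⟨n, hn⟩ := TMul.exists_forall_genOn hL (F := F) hFT
  let P := CohB1.tensorPow L n
  have hP : PicF.IsInvertible P := TMul.isInvertible_tensorPow hL.1 n
  let G := CohB1.tensorMod F P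
  have hG : Coh.IsQCoh G := TMul.isQCoh_tensor hP
  have hGT : CohB1.IsFT G := TMul.isFT_tensor hP hFT
  choose D hD hxD hgen using hn n le_rfl
  obtain ⟨s, hs⟩ := isCompact_univ.elim_finite_subcover (fun x : X => (D x : Set X)) (fun x => (D x).2)
    (fun x _ => Set.mem_iUnion.mpr ⟨x, hxD x⟩)
  have hfg : ∀ x : X, ∃ T : Finset Γ(G, ⊤),
      Submodule.span Γ(X, D x) (res G (le_top : D x ≤ ⊤) '' (T : Set Γ(G, ⊤))) = ⊤ := fun x => by
    haveI : G.IsQuasicoherent := hG
    haveI := (QC.isFT_iff_finite_sections (M := G)).mp hGT ⟨D x, hD x⟩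
    obtain ⟨T, hT⟩ : ∃ T : Finset Γ(G, D x), Submodule.span Γ(X, D x) (T : Set Γ(G, D x)) = ⊤ :=
      (Module.Finite.fg_top : (⊤ : Submodule Γ(X, D x) Γ(G, D x)).FG)
    have hTsub : ∀ t : T, ∃ T' : Finset Γ(G, ⊤),
        (t : Γ(G, D x)) ∈ Submodule.span Γ(X, D x) (res G (le_top : D x ≤ ⊤) '' (T' : Set Γ(G, ⊤))) := fun t => by
      have ht : (t : Γ(G, D x)) ∈ Submodule.span Γ(X, D x) (Set.range (res G (le_top : D x ≤ ⊤))) := (hgen x) ▸ trivial
      obtain ⟨S, hS, htS⟩ := Submodule.mem_span_finite_of_mem_span ht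
      choose g hg using fun y : S => hS y.2
      refine ⟨S.attach.image g, Submodule.span_mono (fun y hy => ?_) htS⟩
      exact ⟨g ⟨y, hy⟩, by simp, hg _⟩
    choose T' hT' using hTsub
    refine ⟨T.attach.biUnion T', top_le_iff.mp (hT ▸ Submodule.span_le.mpr fun t ht => ?_)⟩
    exact Submodule.span_mono (Set.image_mono (fun z hz => Finset.mem_biUnion.mpr ⟨⟨t, ht⟩, by simp, hz⟩)) (hT' ⟨t, ht⟩)
  choose T hT using hfg
  let K := s.biUnion T
  let e := K.equivFin
  let E := FlatMod.freeMod X K.card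
  let p : E ⟶ G := Sigma.desc fun i => TMul.homOf ((e.symm i).1)
  have hp : Epi p := by
    refine Preadditive.epi_of_cancel_zero _ fun {N} g hg => ?_
    refine cancel_zero_of_span hG (fun x : s => D x.1) (fun x => hD x.1) (fun y => ?_)
      (fun x => res G le_top '' (T x.1 : Set Γ(G, ⊤))) (fun x => hT x.1) g fun x t ht => ?_
    · obtain ⟨x, hx, hy⟩ := Set.mem_iUnion₂.mp (hs (Set.mem_univ y))
      exact ⟨⟨x, hx⟩, hy⟩
    · obtain ⟨t, ht', rfl⟩ := ht
      let i := e ⟨t, Finset.mem_biUnion.mpr ⟨x.1, x.2, ht'⟩⟩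
      have h : Sigma.ι (fun _ : Fin K.card => Coh.structureModule X) i ≫ p = TMul.homOf t := by
        rw [Sigma.ι_desc]; simp [i, e]
      have h' : TMul.homOf t ≫ g = 0 := by rw [← h, Category.assoc, hg, comp_zero]
      have h2 : g.app ⊤ t = 0 := by
        have e := congrArg (fun φ : Coh.structureModule X ⟶ N => TMul.val φ ⊤) h'
        simp only [TMul.val_comp, TMul.val_homOf, res_self] at e
        exact e.trans rfl
      rw [← app_res, h2, map_zero]
  obtain ⟨α, hα⟩ := exists_contract P F (epi_evDual_of_isInvertible hP)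
  obtain ⟨β, hβ⟩ := exists_tensorEpi (RefHull.dual P) (p ≫ (TMul.commIso F P).hom)
  refine ⟨_, β ≫ α, isFinLocFree_tensorMod (isFinLocFree_dual (isFinLocFree_of_isInvertible hP)) ?_, epi_comp _ _⟩
  exact DerPerf.isFinLocFree_of_isColimit Finset.univ (coproductIsCoproduct _)
    (fun i h => absurd (Finset.mem_univ i) h) (fun _ _ => isFinLocFree_structureModule X)

theorem hasResolutionProperty_of_isAffineHom (f : X ⟶ Y) [IsAffineHom f] [CompactSpace Y] [QuasiSeparatedSpace Y]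
    (hY : PerfAux.HasResolutionProperty Y) : PerfAux.HasResolutionProperty X := by
  classical
  intro M hM hMT
  haveI : M.IsQuasicoherent := hM
  let F := (Scheme.Modules.pushforward f).obj M
  haveI hF : F.IsQuasicoherent := QC.isQCoh_pushforward f
  choose V hV hyV using fun y : Y => QC.exists_affine_mem y
  obtain ⟨s, hs⟩ := isCompact_univ.elim_finite_subcover (fun y : Y => (V y : Set Y)) (fun y => (V y).2)
    (fun y _ => Set.mem_iUnion.mpr ⟨y, hyV y⟩)
  have key : ∀ y : Y, ∃ (E : Y.Modules) (q : E ⟶ F) (T : Finset Γ(M, f ⁻¹ᵁ V y)),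
      FlatMod.IsFinLocFree E ∧ Submodule.span Γ(X, f ⁻¹ᵁ V y) (T : Set Γ(M, f ⁻¹ᵁ V y)) = ⊤ ∧
      ∀ {N : X.Modules} (g : M ⟶ N), q ≫ (Scheme.Modules.pushforward f).map g = 0 →
        ∀ t ∈ T, g.app (f ⁻¹ᵁ V y) t = 0 := fun y => by
    haveI := (QC.isFT_iff_finite_sections (M := M)).mp hMT ⟨f ⁻¹ᵁ V y, (hV y).preimage f⟩
    obtain ⟨T, hT⟩ : ∃ T : Finset Γ(M, f ⁻¹ᵁ V y), Submodule.span Γ(X, f ⁻¹ᵁ V y) (T : Set Γ(M, f ⁻¹ᵁ V y)) = ⊤ :=
      (Module.Finite.fg_top : (⊤ : Submodule Γ(X, f ⁻¹ᵁ V y) Γ(M, f ⁻¹ᵁ V y)).FG)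
    let S := QC.genSub (F := F) (D := V y) (T : Set Γ(M, f ⁻¹ᵁ V y))
    have hS : QC.LocFinGen S (V y) := fun x hx => ⟨V y, hV y, hx, le_rfl, T,
      ⟨fun t ht => QC.mem_genSub_of_mem ht, fun O _ => le_rfl⟩⟩
    obtain ⟨S', hS', hobj⟩ := QC.exists_extend_qcqs S hS (hV y).isCompact
    obtain ⟨hq', hft'⟩ := QC.Sub.isCoh_toModules hS'
    obtain ⟨E, π, hE, hπ⟩ := hY S'.toModules hq' hft'
    refine ⟨E, π ≫ S'.ι, T, hE, hT, fun {N} g hg t ht => ?_⟩
    have h0 : S'.ι ≫ (Scheme.Modules.pushforward f).map g = 0 := by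
      rw [← cancel_epi π, comp_zero, ← Category.assoc]; exact hg
    have hmem : (show Γ(F, V y) from t) ∈ S'.obj (V y) := by
      rw [hobj _ le_rfl]; exact QC.mem_genSub_of_mem ht
    obtain ⟨t', ht'⟩ := (QC.Sub.range_ι_app S' (V y) (show Γ(F, V y) from t)).mpr hmem
    refine (congrArg (g.app (f ⁻¹ᵁ V y)) ht'.symm).trans ?_
    exact congrArg (fun φ : S'.toModules ⟶ (Scheme.Modules.pushforward f).obj N => φ.app (V y) t') h0
  choose E q T hE hT hzero using key
  let ES : s → Y.Modules := fun y => E y.1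
  let e := Fintype.equivFin s
  let Etot : Y.Modules := ∐ fun i : Fin (Fintype.card s) => ES (e.symm i)
  let qtot : Etot ⟶ F := Sigma.desc fun i => q (e.symm i).1
  let π := ((Scheme.Modules.pullbackPushforwardAdjunction f).homEquiv _ _).symm qtot
  refine ⟨_, π, DerPerf.isFinLocFree_pullback f (DerPerf.isFinLocFree_of_isColimit Finset.univ
    (coproductIsCoproduct _) (fun i h => absurd (Finset.mem_univ i) h) fun i _ => hE _), ?_⟩
  refine Preadditive.epi_of_cancel_zero _ fun {N} g hg => ?_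
  have hq0 : qtot ≫ (Scheme.Modules.pushforward f).map g = 0 := by
    have h := (Scheme.Modules.pullbackPushforwardAdjunction f).homEquiv_naturality_right π g
    rw [hg, Equiv.apply_symm_apply] at h
    rw [← h]
    simp [Adjunction.homEquiv_unit]
  refine cancel_zero_of_span hM (fun y : s => f ⁻¹ᵁ V y.1) (fun y => (hV y.1).preimage f) (fun x => ?_)
    (fun y => (T y.1 : Set Γ(M, f ⁻¹ᵁ V y.1))) (fun y => hT y.1) g fun y t ht => ?_
  · obtain ⟨y, hy, hxy⟩ := Set.mem_iUnion₂.mp (hs (Set.mem_univ (f x)))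
    exact ⟨⟨y, hy⟩, hxy⟩
  · refine hzero y.1 g ?_ t ht
    have h := congrArg (Sigma.ι (fun i : Fin (Fintype.card s) => ES (e.symm i)) (e y) ≫ ·) hq0
    simp only [qtot, Sigma.ι_desc_assoc, comp_zero] at h
    rw [Equiv.symm_apply_apply] at h
    exact h

end Groth.Agent.ResDesc
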