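import Groth.Agent.TMul.Frame
import Groth.Agent.SymAlg.PullBC
import Groth.Agent.ProjMor.PullSec
import Groth.Agent.GrT.GammaIso
import Mathlib.RingTheory.TensorProduct.Free

/-!
`f_* O ⊗ G ≅ f_* f^* G` for an affine morphism with finite locally free direct image.
-/

set_option autoImplicit false
set_option backward.isDefEq.respectTransparency false

universe u

open CategoryTheory CategoryTheory.Limits AlgebraicGeometry TopologicalSpace Opposite
open Groth.Agent.QC (res resO res_res res_self res_smul resO_resO app_res)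
open scoped TensorProduct

noncomputable section

namespace Groth.Agent.ResDesc

section Algebra

variable {A B : Type u} [CommRing A] [CommRing B] (φ : A →+* B)
  {M N : Type u} [AddCommGroup M] [Module A M] [AddCommGroup N] [Module B N]

/-- A base change along a finite free algebra is a power of the module. -/
theorem bijective_comb {n : ℕ} (b : Fin n → B)
    (hb : Function.Bijective fun c : Fin n → A => ∑ i, φ (c i) * b i)
    (r : M → N) (hadd : ∀ m m', r (m + m') = r m + r m') (hsmul : ∀ a m, r (a • m) = φ a • r m)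
    (hu : ∀ (Q : Type u) [AddCommGroup Q] [Module B Q] (w : M →ₛₗ[φ] Q),
      ∃! F : N →ₗ[B] Q, ∀ m, F (r m) = w m) :
    Function.Bijective fun m : Fin n → M => ∑ i, b i • r (m i) := by
  classical
  letI : Algebra A B := φ.toAlgebra
  letI : Module A N := Module.compHom N φ
  haveI : IsScalarTower A B N := IsScalarTower.of_algebraMap_smul fun _ _ => rfl
  let e : (Fin n → A) ≃ₗ[A] B := LinearEquiv.ofBijective
    { toFun := fun c : Fin n → A => ∑ i, φ (c i) * b i
      map_add' := fun c c' => by simp [add_mul, Finset.sum_add_distrib]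
      map_smul' := fun a c => by
        simp only [Pi.smul_apply, smul_eq_mul, map_mul, RingHom.id_apply, Finset.smul_sum, mul_assoc,
          Algebra.smul_def, RingHom.algebraMap_toAlgebra, Finset.mul_sum] } hb
  let rl : M →ₗ[A] N := { toFun := r, map_add' := hadd, map_smul' := hsmul }
  let w : M →ₛₗ[φ] B ⊗[A] M :=
    { toFun := fun m => (1 : B) ⊗ₜ[A] m
      map_add' := fun m m' => TensorProduct.tmul_add _ _ _
      map_smul' := fun a m => by
        rw [TensorProduct.tmul_smul]
        exact (IsScalarTower.algebraMap_smul B a ((1 : B) ⊗ₜ[A] m)).symm }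
  obtain ⟨F, hF, -⟩ := hu _ w
  let G : B ⊗[A] M →ₗ[B] N := rl.liftBaseChange B
  have hG : ∀ (x : B) (m : M), G (x ⊗ₜ m) = x • r m := fun x m => LinearMap.liftBaseChange_tmul B rl x m
  have hGF : G ∘ₗ F = LinearMap.id := by
    obtain ⟨F₀, -, hu0⟩ := hu N
      { toFun := r, map_add' := hadd, map_smul' := hsmul }
    refine (hu0 _ fun m => ?_).trans (hu0 _ fun m => rfl).symm
    change G (F (r m)) = r m
    rw [hF]
    exact (hG 1 m).trans (one_smul B _)
  have hFG : ∀ z, F (G z) = z := fun z => by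
    induction z using TensorProduct.induction_on with
    | zero => simp
    | tmul x m =>
      rw [hG, map_smul, hF]
      change x • ((1 : B) ⊗ₜ[A] m) = x ⊗ₜ[A] m
      rw [TensorProduct.smul_tmul', smul_eq_mul, mul_one]
    | add p q hp hq => rw [map_add, map_add, hp, hq]
  have hbij : Function.Bijective G :=
    ⟨Function.LeftInverse.injective hFG, fun y => ⟨F y, LinearMap.congr_fun hGF y⟩⟩
  let t : (Fin n → M) ≃ₗ[A] B ⊗[A] M :=
    (TensorProduct.piScalarRight A A M (Fin n)).symm ≪≫ₗ TensorProduct.comm A M (Fin n → A) ≪≫ₗ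
      TensorProduct.congr e (LinearEquiv.refl A M)
  have ht : ∀ m, t m = ∑ i, b i ⊗ₜ[A] m i := fun m => by
    have hs : (TensorProduct.piScalarRight A A M (Fin n)).symm m = ∑ i, m i ⊗ₜ[A] Pi.single i (1 : A) := by
      rw [LinearEquiv.symm_apply_eq, map_sum]
      funext j
      simp [Pi.single_apply]
    simp only [t, LinearEquiv.trans_apply, hs, map_sum]
    refine Finset.sum_congr rfl fun i _ => ?_
    rw [TensorProduct.comm_tmul, TensorProduct.congr_tmul]
    congr 1
    change ∑ k, φ ((Pi.single i (1 : A) : Fin n → A) k) * b k = b i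
    simp [Pi.single_apply, apply_ite φ]
  have e2 : (fun m : Fin n → M => ∑ i, b i • r (m i)) = G ∘ t := funext fun m => by
    simp only [Function.comp_apply, ht, map_sum, hG]
  rw [e2]
  exact hbij.comp t.bijective

end Algebra

variable {X Y : Scheme.{u}} (f : X ⟶ Y) (G : Y.Modules)

/-- `f_* O_X`. -/
abbrev algMod : Y.Modules := (Scheme.Modules.pushforward f).obj (Coh.structureModule X)

/-- The bilinear maps of the projection morphism. -/
def phiBil (U : Y.Opens) : Γ(algMod f, U) →ₗ[Γ(Y, U)] Γ(G, U) →ₗ[Γ(Y, U)]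
    Γ((Scheme.Modules.pushforward f).obj ((Scheme.Modules.pullback f).obj G), U) :=
  LinearMap.mk₂ _
    (fun b g => (show Γ((Scheme.Modules.pushforward f).obj ((Scheme.Modules.pullback f).obj G), U) from
      (show Γ(X, f ⁻¹ᵁ U) from b) • ProjMor.eta f G U g))
    (fun b b' g => add_smul (show Γ(X, f ⁻¹ᵁ U) from b) (show Γ(X, f ⁻¹ᵁ U) from b') (ProjMor.eta f G U g))
    (fun r b g => mul_smul (f.app U r) (show Γ(X, f ⁻¹ᵁ U) from b) (ProjMor.eta f G U g))
    (fun b g g' => (congrArg ((show Γ(X, f ⁻¹ᵁ U) from b) • ·) (map_add (ProjMor.eta f G U) g g')).trans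
      (smul_add (show Γ(X, f ⁻¹ᵁ U) from b) (ProjMor.eta f G U g) (ProjMor.eta f G U g')))
    (fun r b g => (congrArg ((show Γ(X, f ⁻¹ᵁ U) from b) • ·) (ProjMor.eta_smul f G r g)).trans
      (smul_comm (show Γ(X, f ⁻¹ᵁ U) from b) (f.app U r) (ProjMor.eta f G U g)))

theorem phiBil_res {V U : Y.Opens} (h : V ≤ U) (b : Γ(algMod f, U)) (g : Γ(G, U)) :
    res _ h (phiBil f G U b g) = phiBil f G V (res (algMod f) h b) (res G h g) :=
  (res_smul ((Scheme.Modules.pullback f).obj G) (f.preimage_mono h) (show Γ(X, f ⁻¹ᵁ U) from b) _).trans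
    (congrArg _ (ProjMor.eta_res f G h g))

/-- `f_*O ⊗ G ⟶ f_* f^* G`. -/
def phi : CohB1.tensorMod (algMod f) G ⟶
    (Scheme.Modules.pushforward f).obj ((Scheme.Modules.pullback f).obj G) :=
  TMul.lift (phiBil f G) fun h b g => phiBil_res f G h b g

theorem phi_tm {U : Y.Opens} (b : Γ(algMod f, U)) (g : Γ(G, U)) :
    (phi f G).app U (TMul.tm b g) = phiBil f G U b g :=
  TMul.lift_tm _ (fun h b g => phiBil_res f G h b g) b g

theorem isIso_phi [IsAffineHom f] (hP : FlatMod.IsFinLocFree (algMod f)) (hG : Coh.IsQCoh G) :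
    IsIso (phi f G) := by
  have key : ∀ y : Y, ∀ W : Y.Opens, y ∈ W → ∃ (V : Y.Opens) (_ : V ≤ W),
      y ∈ V ∧ Function.Bijective ((phi f G).app V) := fun y W hy => by
    obtain ⟨U, n, e, hyU, he⟩ := TMul.exists_isFrame hP y
    obtain ⟨V, hV, hyV, hVle⟩ := exists_isAffineOpen_mem_and_subset (show y ∈ W ⊓ U from ⟨hy, hyU⟩)
    have hVU : V ≤ U := hVle.trans inf_le_right
    refine ⟨V, hVle.trans inf_le_left, hyV, ?_⟩
    refine (Function.Bijective.of_comp_iff _ (he.tm_bijective (M := G) V hVU)).1 ?_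
    let b : Fin n → Γ(X, f ⁻¹ᵁ V) := fun i => res (algMod f) hVU (e i)
    let φ := (f.appLE V (f ⁻¹ᵁ V) le_rfl).hom
    have happ : ∀ a, φ a = f.app V a := fun a => by simp [φ, Scheme.Hom.appLE_eq_app]
    have hcomb : (fun c : Fin n → Γ(Y, V) => ∑ i, φ (c i) * b i) = (he.equiv hVU : (Fin n → Γ(Y, V)) → _) :=
      funext fun c => Finset.sum_congr rfl fun i _ => congrArg (· * b i) (happ (c i))
    have hbc := RelTilde.isBC_unit f (L := G) hG hV (hV.preimage f) (le_refl (f ⁻¹ᵁ V))
    have h := bijective_comb φ (M := Γ(G, V)) (N := Γ((Scheme.Modules.pullback f).obj G, f ⁻¹ᵁ V)) b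
      (by rw [hcomb]; exact (he.equiv hVU).bijective)
      (RelTilde.resθ f ((Scheme.Modules.pullbackPushforwardAdjunction f).unit.app G) (le_refl (f ⁻¹ᵁ V)))
      (map_add _) (fun a m => LinearMap.map_smulₛₗ _ a m) (fun Q _ _ w => hbc Q w)
    refine Eq.mpr (congrArg Function.Bijective (funext fun m => ?_)) h
    simp only [Function.comp_apply]
    refine (map_sum ((phi f G).app V).hom _ _).trans (Finset.sum_congr rfl fun i _ => ?_)
    refine (phi_tm f G _ _).trans ?_
    exact congrArg (fun z : Γ((Scheme.Modules.pullback f).obj G, f ⁻¹ᵁ V) => b i • z)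
      (res_self ((Scheme.Modules.pullback f).obj G) (le_refl (f ⁻¹ᵁ V)) (ProjMor.eta f G V (m i))).symm
  refine GrT.isIso_of_locally _ (fun W => (injective_iff_map_eq_zero _).mpr fun t ht =>
    Groth.Agent.QC.section_eq_of_locally fun y hy => ?_) fun W t y hy => ?_
  · obtain ⟨V, hV, hyV, hb⟩ := key y W hy
    exact ⟨V, hV, hyV, hb.1 (by rw [← app_res, ht, map_zero, map_zero, map_zero])⟩
  · obtain ⟨V, hV, hyV, hb⟩ := key y W hy
    exact ⟨V, hV, hyV, hb.2 _⟩

end Groth.Agent.ResDesc
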