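import Groth.Agent.ResDesc.Dual
import Groth.Agent.ResDesc.ProjFormula
import Groth.Agent.DerPerf.Tensor
import Groth.Agent.ModDesc.Iso
import Groth.Agent.QC.Localisation
import Groth.Prelude.Def_Mor2
import Groth.Prelude.Def_PerfAux

/-!
The resolution property descends along surjective finite locally free morphisms.
-/

set_option autoImplicit false
set_option backward.isDefEq.respectTransparency false

universe u

open CategoryTheory CategoryTheory.Limits AlgebraicGeometry TopologicalSpace Opposite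
open Groth.Agent.QC (res resO res_res res_self res_smul resO_resO app_res)
open Groth.Agent.WeakAssLib (mgerm mgerm_res)

noncomputable section

namespace Groth.Agent.ResDesc

variable {X Y : Scheme.{u}} (f : X ⟶ Y)

theorem isFinLocFree_push [IsFinite f] [Flat f] [LocallyOfFinitePresentation f] {E : X.Modules}
    (hE : FlatMod.IsFinLocFree E) : FlatMod.IsFinLocFree ((Scheme.Modules.pushforward f).obj E) := by
  refine LocFree.isFinLocFree_of_affine_projective
    (QC.isQCoh_pushforward (hM := LocFree.isQCoh_of_isFinLocFree hE) f) fun x => ?_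
  obtain ⟨U, hU, hx⟩ := QC.exists_affine_mem x
  have hU' := hU.preimage f
  letI : Algebra Γ(Y, U) Γ(X, f ⁻¹ᵁ U) := (f.app U).hom.toAlgebra
  haveI : Module.Finite Γ(Y, U) Γ(X, f ⁻¹ᵁ U) := RingHom.finite_algebraMap.mp (IsFinite.finite_app f U hU)
  haveI : Algebra.FinitePresentation Γ(Y, U) Γ(X, f ⁻¹ᵁ U) := by
    refine RingHom.finitePresentation_algebraMap.mp ?_
    rw [RingHom.algebraMap_toAlgebra, Scheme.Hom.app_eq_appLE]
    exact HasRingHomProperty.appLE @LocallyOfFinitePresentation f inferInstance ⟨U, hU⟩ ⟨_, hU'⟩ le_rfl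
  haveI : Module.Flat Γ(Y, U) Γ(X, f ⁻¹ᵁ U) := by
    refine RingHom.flat_algebraMap_iff.mp ?_
    rw [RingHom.algebraMap_toAlgebra, Scheme.Hom.app_eq_appLE]
    exact HasRingHomProperty.appLE @Flat f inferInstance ⟨U, hU⟩ ⟨_, hU'⟩ le_rfl
  haveI : Module.FinitePresentation Γ(Y, U) Γ(X, f ⁻¹ᵁ U) :=
    Module.FinitePresentation.of_finite_of_finitePresentation _ _
  haveI := LocFree.finitePresentation_sections hE hU'
  haveI := LocFree.projective_sections hE hU'
  letI : Module Γ(Y, U) Γ(E, f ⁻¹ᵁ U) := Module.compHom _ (f.app U).hom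
  haveI : IsScalarTower Γ(Y, U) Γ(X, f ⁻¹ᵁ U) Γ(E, f ⁻¹ᵁ U) := IsScalarTower.of_algebraMap_smul fun _ _ => rfl
  haveI : Module.FinitePresentation Γ(Y, U) Γ(E, f ⁻¹ᵁ U) :=
    Module.FinitePresentation.trans Γ(Y, U) Γ(E, f ⁻¹ᵁ U) Γ(X, f ⁻¹ᵁ U)
  haveI : Module.Flat Γ(Y, U) Γ(E, f ⁻¹ᵁ U) := Module.Flat.trans Γ(Y, U) Γ(X, f ⁻¹ᵁ U) Γ(E, f ⁻¹ᵁ U)
  let l : Γ((Scheme.Modules.pushforward f).obj E, U) ≃ₗ[Γ(Y, U)] Γ(E, f ⁻¹ᵁ U) :=
    { toFun := fun s => (show Γ(E, f ⁻¹ᵁ U) from s)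
      invFun := fun s => (show Γ((Scheme.Modules.pushforward f).obj E, U) from s)
      left_inv := fun _ => rfl
      right_inv := fun _ => rfl
      map_add' := fun _ _ => rfl
      map_smul' := fun _ _ => rfl }
  exact ⟨U, hU, hx, Module.FinitePresentation.of_equiv l.symm, Module.Flat.of_linearEquiv l⟩

theorem pos_frames [Surjective f] (hP : FlatMod.IsFinLocFree (algMod f)) (y : Y) :
    ∃ (U : Y.Opens) (n : ℕ) (e : Fin (n + 1) → Γ(algMod f, U)), y ∈ U ∧ TMul.IsFrame e := by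
  obtain ⟨U, m, e, hyU, he⟩ := TMul.exists_isFrame hP y
  cases m with
  | succ n => exact ⟨U, n, e, hyU, he⟩
  | zero =>
    exfalso
    obtain ⟨x, rfl⟩ := f.surjective y
    obtain ⟨c, hc⟩ := (he (f x) hyU).2 (mgerm (algMod f) (show f x ∈ (⊤ : Y.Opens) from trivial)
      (1 : Γ(X, f ⁻¹ᵁ ⊤)))
    have h0 : mgerm (algMod f) (show f x ∈ (⊤ : Y.Opens) from trivial) (1 : Γ(X, f ⁻¹ᵁ ⊤)) =
        mgerm (algMod f) (show f x ∈ (⊤ : Y.Opens) from trivial) (0 : Γ(algMod f, (⊤ : Y.Opens))) := by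
      rw [map_zero, ← hc]
      simp
    obtain ⟨V, hxV, i₁, i₂, hV⟩ := TopCat.Presheaf.germ_eq (algMod f).presheaf (f x) _ _ _ _ h0
    have h1 : X.presheaf.map (homOfLE (f.preimage_mono i₁.le)).op (1 : Γ(X, f ⁻¹ᵁ ⊤)) = 0 :=
      hV.trans (map_zero ((algMod f).presheaf.map i₂.op).hom)
    rw [map_one] at h1
    have := X.basicOpen_of_isUnit (isUnit_one (M := Γ(X, f ⁻¹ᵁ V)))
    rw [h1, Scheme.basicOpen_zero] at this
    exact this.ge (show x ∈ f ⁻¹ᵁ V from hxV)

theorem epi_push [IsAffineHom f] {E F : X.Modules} (hE : Coh.IsQCoh E) (hF : Coh.IsQCoh F) (π : E ⟶ F) [Epi π] :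
    Epi ((Scheme.Modules.pushforward f).map π) := by
  refine Preadditive.epi_of_cancel_zero _ fun {N} g hg => ?_
  refine Scheme.Modules.hom_ext _ _ fun W => ?_
  ext s
  refine QC.section_eq_of_locally fun y hy => ?_
  obtain ⟨V, hV, hyV, hVW⟩ := exists_isAffineOpen_mem_and_subset (show y ∈ W from hy)
  refine ⟨V, hVW, hyV, ?_⟩
  obtain ⟨t, ht⟩ := QC.app_surjective_of_epi (hV.preimage f) hE hF π (res _ hVW s)
  rw [app_res, app_res, ← ht]
  exact congrArg (fun φ : (Scheme.Modules.pushforward f).obj E ⟶ N => φ.app V t) hg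

theorem epi_tensorMap {F N N' : Y.Modules} (φ : N ⟶ N') [Epi φ] :
    Epi (((DCoh.tensorBi (X := Y)).obj F).map φ) := by
  have : ((DCoh.tensorBi (X := Y)).obj F).IsLeftAdjoint := (W7Hull.homShAdj F).isLeftAdjoint
  infer_instance

theorem exists_tensorEpi (F : Y.Modules) {N N' : Y.Modules} (φ : N ⟶ N') [Epi φ] :
    ∃ β : CohB1.tensorMod F N ⟶ CohB1.tensorMod F N', Epi β :=
  ⟨((DCoh.tensorBi (X := Y)).obj F).map φ, epi_tensorMap φ⟩

theorem exists_contract (P G : Y.Modules) (hev : Epi (evDual P)) :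
    ∃ α : CohB1.tensorMod (RefHull.dual P) (CohB1.tensorMod P G) ⟶ G, Epi α := by
  obtain ⟨μ, hμ⟩ := exists_tensorEpi G ((TMul.commIso (RefHull.dual P) P).hom ≫ evDual P)
  exact ⟨(TMul.assocIso (RefHull.dual P) P G).inv ≫ (TMul.commIso _ _).hom ≫ μ ≫
    (TMul.commIso G (Coh.structureModule Y)).hom ≫ (TMul.leftUnitIso G).hom, inferInstance⟩

theorem isFinLocFree_structureModule (X : Scheme.{u}) : FlatMod.IsFinLocFree (Coh.structureModule X) :=
  isFinLocFree_of_frames fun x => ⟨⊤, 1, fun _ => (1 : Γ(X, ⊤)), trivial, fun z hz => by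
    obtain ⟨e, he⟩ := RefStalk.exists_structStalk z
    have : (fun c : Fin 1 → X.presheaf.stalk z => ∑ i, c i • mgerm (Coh.structureModule X) hz (1 : Γ(X, ⊤))) =
        e ∘ (Equiv.funUnique (Fin 1) _) := funext fun c => by simp [he]
    rw [this]
    exact e.bijective.comp (Equiv.bijective _)⟩

theorem isFinLocFree_tensorMod {M N : Y.Modules} (hM : FlatMod.IsFinLocFree M) (hN : FlatMod.IsFinLocFree N) :
    FlatMod.IsFinLocFree (CohB1.tensorMod M N) :=
  DerPerf.isFinLocFree_tensor hM hN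

theorem hasResolutionProperty_descend (hf : Mor2.IsFinLocFree f) [Surjective f]
    (hX : PerfAux.HasResolutionProperty X) : PerfAux.HasResolutionProperty Y := by
  obtain ⟨h₁, h₂, h₃⟩ := hf
  intro G hG hGT
  obtain ⟨E, π, hE, hπ⟩ := hX ((Scheme.Modules.pullback f).obj G) (QC.isQCoh_pullback f hG)
    (ModDesc.isFT_pullback f hG hGT)
  have hP : FlatMod.IsFinLocFree (algMod f) := isFinLocFree_push f (isFinLocFree_structureModule X)
  have hev := epi_evDual (pos_frames f hP)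
  have := isIso_phi f G hP hG
  have := epi_push f (LocFree.isQCoh_of_isFinLocFree hE) (QC.isQCoh_pullback f hG) π
  obtain ⟨α, hα⟩ := exists_contract (algMod f) G hev
  obtain ⟨β, hβ⟩ := exists_tensorEpi (RefHull.dual (algMod f))
    ((Scheme.Modules.pushforward f).map π ≫ inv (phi f G))
  exact ⟨_, β ≫ α, isFinLocFree_tensorMod (isFinLocFree_dual hP) (isFinLocFree_push f hE), epi_comp _ _⟩

end Groth.Agent.ResDesc
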