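import Groth.Agent.TMul.Frame
import Groth.Agent.W7Hull.HomAdj
import Groth.Agent.RefStalk.Eval
import Groth.Agent.RefStalk.Refl
import Groth.Agent.LocFree.Basic
import Groth.Agent.LocFree.Props
import Groth.Agent.QC.Closure

/-!
Modules with frames are finite locally free; duals of finite locally free modules on arbitrary schemes.
-/

set_option autoImplicit false
set_option backward.isDefEq.respectTransparency false

universe u

open CategoryTheory CategoryTheory.Limits AlgebraicGeometry TopologicalSpace Opposite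
open Groth.Agent.QC (res resO res_res res_smul resO_resO app_res)
open Groth.Agent.WeakAssLib (mgerm mgerm_smul mgerm_res)

noncomputable section

namespace Groth.Agent.ResDesc

variable {X : Scheme.{u}} {N : X.Modules}

/-- A module with frames near every point is quasi-coherent. -/
theorem isQCoh_of_frames (h : ∀ x : X, ∃ (U : X.Opens) (n : ℕ) (e : Fin n → Γ(N, U)), x ∈ U ∧ TMul.IsFrame e) :
    Coh.IsQCoh N := by
  refine QC.isQCoh_of_isLoc fun x => ?_
  obtain ⟨U, n, e, hxU, he⟩ := h x
  obtain ⟨D, hD, hxD, hDU⟩ := exists_isAffineOpen_mem_and_subset (show x ∈ U from hxU)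
  have hO : QC.IsLoc (Coh.structureModule X) D := QC.isLoc_of_isQCoh hD (hM := QC.isQCoh_unit X)
  have key : ∀ {W : X.Opens} (hW : W ≤ D) (c : Fin n → Γ(X, D)),
      res N hW (he.equiv hDU c) = he.equiv (hW.trans hDU) (fun i => resO X hW (c i)) := fun {W} hW c => by
    change res N hW (∑ i, c i • res N hDU (e i)) = ∑ i, resO X hW (c i) • res N (hW.trans hDU) (e i)
    rw [map_sum]
    exact Finset.sum_congr rfl fun i _ => by rw [res_smul, res_res]
  refine ⟨D, hD, hxD, ⟨fun f t => ?_, fun f s hs => ?_⟩⟩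
  · obtain ⟨c, rfl⟩ := (he.equiv ((X.basicOpen_le f).trans hDU)).surjective t
    choose m s hs using fun i => hO.exists_extend f (c i)
    refine ⟨∑ i, m i, he.equiv hDU (fun i => f ^ ((∑ j, m j) - m i) • (show Γ(X, D) from s i)), ?_⟩
    rw [key, ← map_smul (he.equiv ((X.basicOpen_le f).trans hDU))]
    congr 1
    funext i
    have hle : m i ≤ ∑ j, m j := Finset.single_le_sum (fun j _ => Nat.zero_le (m j)) (Finset.mem_univ i)
    have hsi : resO X (X.basicOpen_le f) (s i) = resO X (X.basicOpen_le f) f ^ m i * c i := hs i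
    simp only [Pi.smul_apply, smul_eq_mul, map_mul, map_pow, hsi]
    rw [← mul_assoc, ← pow_add, Nat.sub_add_cancel hle]
  · obtain ⟨c, rfl⟩ := (he.equiv hDU).surjective s
    rw [key, map_eq_zero_iff _ (he.equiv ((X.basicOpen_le f).trans hDU)).injective] at hs
    choose m hm using fun i => hO.exists_pow_smul_eq_zero f (c i) (congrFun hs i)
    refine ⟨∑ i, m i, ?_⟩
    rw [← map_smul, map_eq_zero_iff _ (he.equiv hDU).injective]
    funext i
    have hle : m i ≤ ∑ j, m j := Finset.single_le_sum (fun j _ => Nat.zero_le (m j)) (Finset.mem_univ i)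
    have hmi : f ^ m i * c i = 0 := hm i
    simp only [Pi.smul_apply, smul_eq_mul, Pi.zero_apply]
    rw [← Nat.sub_add_cancel hle, pow_add, mul_assoc, hmi, mul_zero]

/-- A module with frames near every point is finite locally free. -/
theorem isFinLocFree_of_frames
    (h : ∀ x : X, ∃ (U : X.Opens) (n : ℕ) (e : Fin n → Γ(N, U)), x ∈ U ∧ TMul.IsFrame e) :
    FlatMod.IsFinLocFree N := by
  refine LocFree.isFinLocFree_of_affine_free (isQCoh_of_frames h) fun x => ?_
  obtain ⟨U, n, e, hxU, he⟩ := h x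
  obtain ⟨D, hD, hxD, hDU⟩ := exists_isAffineOpen_mem_and_subset (show x ∈ U from hxU)
  exact ⟨D, hD, hxD, Module.Free.of_equiv (he.equiv hDU), Module.Finite.equiv (he.equiv hDU)⟩

variable {P : X.Modules} {n : ℕ} {U : X.Opens} {e : Fin n → Γ(P, U)}

/-- The coordinate on stalks of a frame. -/
def stalkEquiv (he : TMul.IsFrame e) {x : X} (hx : x ∈ U) :
    (Fin n → X.presheaf.stalk x) ≃ₗ[X.presheaf.stalk x] P.presheaf.stalk x :=
  LinearEquiv.ofBijective
    { toFun := fun c : Fin n → X.presheaf.stalk x => ∑ i, c i • mgerm P hx (e i)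
      map_add' := fun a b => by simp only [Pi.add_apply, add_smul, Finset.sum_add_distrib]
      map_smul' := fun r a => by simp only [Pi.smul_apply, smul_eq_mul, mul_smul, Finset.smul_sum, RingHom.id_apply] }
    (he x hx)

theorem stalkEquiv_germ (he : TMul.IsFrame e) {V : X.Opens} (hV : V ≤ U) {x : X} (hx : x ∈ V)
    (c : Fin n → Γ(X, V)) :
    (stalkEquiv he (hV hx)).symm (mgerm P hx (he.equiv hV c)) = fun i => (X.presheaf.germ V x hx).hom (c i) := by
  rw [LinearEquiv.symm_apply_eq]
  exact TMul.germ_comb hV hx c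

/-- The germ of one. -/
abbrev oneS (x : X) : (Coh.structureModule X).presheaf.stalk x :=
  mgerm (Coh.structureModule X) (show x ∈ (⊤ : X.Opens) from trivial) (1 : Γ(X, (⊤ : X.Opens)))

theorem germ_smul_one {V : X.Opens} {x : X} (hx : x ∈ V) (r : Γ(X, V)) :
    (X.presheaf.germ V x hx).hom r • oneS x = mgerm (Coh.structureModule X) hx (r : Γ(Coh.structureModule X, V)) := by
  rw [oneS, ← mgerm_res (Coh.structureModule X) (le_top : V ≤ ⊤) hx, ← mgerm_smul]
  congr 1
  change r * resO X (le_top : V ≤ ⊤) 1 = r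
  rw [map_one, mul_one]

/-- The coordinate functionals of a frame, as sections of the dual. -/
def coord (he : TMul.IsFrame e) (j : Fin n) : Γ(RefHull.dual P, U) :=
  ⟨fun x => (LinearMap.toSpanSingleton (X.presheaf.stalk x.1) _ (oneS x.1)).comp
      ((LinearMap.proj j).comp (stalkEquiv he x.2).symm.toLinearMap), fun V i a x =>
    ⟨V, x.2, 𝟙 V, (he.equiv i.le).symm a j, fun y => by
      change (stalkEquiv he _).symm (mgerm P y.2 a) j • oneS y.1 = mgerm (Coh.structureModule X) y.2 _
      have e1 := congrFun (stalkEquiv_germ he i.le y.2 ((he.equiv i.le).symm a)) j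
      rw [LinearEquiv.apply_symm_apply] at e1
      rw [e1]
      exact germ_smul_one y.2 _⟩⟩

theorem coord_germ (he : TMul.IsFrame e) (j i : Fin n) {x : X} (hx : x ∈ U) :
    (coord he j).1 ⟨x, hx⟩ (mgerm P hx (e i)) = if i = j then oneS x else 0 := by
  classical
  change (stalkEquiv he hx).symm (mgerm P hx (e i)) j • oneS x = _
  have h : (stalkEquiv he hx).symm (mgerm P hx (e i)) = Pi.single i 1 := by
    rw [LinearEquiv.symm_apply_eq]
    change _ = ∑ k, (Pi.single i (1 : X.presheaf.stalk x) : Fin n → _) k • mgerm P hx (e k)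
    simp [Pi.single_apply]
  rw [h, Pi.single_apply]
  by_cases hij : i = j
  · subst hij; simp
  · rw [if_neg hij, if_neg (Ne.symm hij), zero_smul]

theorem isFrame_coord (hP : FlatMod.IsFinLocFree P) (he : TMul.IsFrame e) : TMul.IsFrame (coord he) := by
  classical
  intro x hx
  have hfp := LocFree.isFP_of_isFinLocFree hP
  obtain ⟨E, hE⟩ := RefStalk.exists_structStalk x
  let L := LinearEquiv.ofBijective (RefHull.evalStalk P (Coh.structureModule X) x)
    (RefStalk.evalStalk_bijective hfp x)
  have hL : ∀ c : Fin n → X.presheaf.stalk x, ∀ i,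
      L (∑ j, c j • mgerm (RefHull.dual P) hx (coord he j)) (mgerm P hx (e i)) = E (c i) := fun c i => by
    rw [map_sum, LinearMap.sum_apply, hE]
    have h0 : (∑ j, c j • if i = j then oneS x else (0 : (Coh.structureModule X).presheaf.stalk x)) = c i • oneS x := by
      rw [Finset.sum_eq_single i (fun j _ hj => by rw [if_neg (Ne.symm hj), smul_zero])
        (fun h => absurd (Finset.mem_univ i) h), if_pos rfl]
    refine Eq.trans (Finset.sum_congr rfl fun j _ => ?_) h0
    rw [map_smul, LinearMap.smul_apply, ← coord_germ he j i hx]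
    exact congrArg (fun z => c j • z (mgerm P hx (e i))) (RefHull.evalStalk_germ _ _ x hx (coord he j))
  refine ⟨fun c c' h => funext fun i => E.injective ?_, fun θ => ?_⟩
  · rw [← hL c i, ← hL c' i]
    exact congrArg (fun z => L z (mgerm P hx (e i))) h
  · refine ⟨fun i => E.symm (L θ (mgerm P hx (e i))), L.injective (LinearMap.ext fun v => ?_)⟩
    obtain ⟨a, rfl⟩ := (stalkEquiv he hx).surjective v
    change L _ (∑ i, a i • mgerm P hx (e i)) = L θ (∑ i, a i • mgerm P hx (e i))
    refine (map_sum _ _ _).trans ((Finset.sum_congr rfl fun i _ => ?_).trans (map_sum _ _ _).symm)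
    refine (map_smul _ _ _).trans ((congrArg (a i • ·) ?_).trans (map_smul _ _ _).symm)
    exact (hL _ i).trans (E.apply_symm_apply _)

theorem isFinLocFree_dual (hP : FlatMod.IsFinLocFree P) : FlatMod.IsFinLocFree (RefHull.dual P) := by
  refine isFinLocFree_of_frames fun x => ?_
  obtain ⟨U, n, e, hxU, he⟩ := TMul.exists_isFrame hP x
  exact ⟨U, n, coord he, hxU, isFrame_coord hP he⟩

/-- Evaluation against the dual. -/
abbrev evDual (P : X.Modules) : CohB1.tensorMod P (RefHull.dual P) ⟶ Coh.structureModule X :=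
  W7Hull.uncur (𝟙 (RefHull.dual P))

theorem epi_evDual (h : ∀ x : X, ∃ (U : X.Opens) (n : ℕ) (e : Fin (n + 1) → Γ(P, U)), x ∈ U ∧ TMul.IsFrame e) :
    Epi (evDual P) := by
  refine Preadditive.epi_of_cancel_zero _ fun {N} g hg => ?_
  refine Scheme.Modules.hom_ext _ _ fun W => ?_
  ext s
  refine QC.section_eq_of_locally fun y hy => ?_
  obtain ⟨U, n, e, hyU, he⟩ := h y
  refine ⟨W ⊓ U, inf_le_left, ⟨hy, hyU⟩, ?_⟩
  let s' : Γ(X, W ⊓ U) := resO X inf_le_left s
  let a := res P (inf_le_right : W ⊓ U ≤ U) (e 0)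
  let d := res (RefHull.dual P) (inf_le_right : W ⊓ U ≤ U) (coord he 0)
  have hval : (evDual P).app (W ⊓ U) (TMul.tm a (s' • d)) = (s' : Γ(Coh.structureModule X, W ⊓ U)) := by
    refine RefStalk.germ_ext fun z hz => ?_
    rw [W7Hull.uncur_tm]
    change ((s' • d : Γ(RefHull.dual P, W ⊓ U))).1 ⟨z, hz⟩ (mgerm P hz a) = _
    change X.presheaf.germ (W ⊓ U) z hz s' • (coord he 0).1 ⟨z, hz.2⟩ (mgerm P hz a) = _
    rw [mgerm_res, coord_germ, if_pos rfl]
    exact germ_smul_one hz s'
  have h0 := congrArg (fun φ : CohB1.tensorMod P (RefHull.dual P) ⟶ N => φ.app (W ⊓ U) (TMul.tm a (s' • d))) hg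
  have h1 : g.app (W ⊓ U) (s' : Γ(Coh.structureModule X, W ⊓ U)) = 0 := by
    rw [← hval]; exact h0
  rw [app_res, app_res]
  exact h1.trans rfl

end Groth.Agent.ResDesc
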