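import Groth.Agent.ResDesc.ResLocal
import Groth.Agent.TMul.AmpleComp
import Groth.Agent.W7Hull.InvDual
import Groth.Prelude.Def_KSix

/-!
Ample families: transfer along relatively ample morphisms, surjections from negative powers.
-/

set_option autoImplicit false
set_option backward.isDefEq.respectTransparency false

universe u

open CategoryTheory CategoryTheory.Limits AlgebraicGeometry TopologicalSpace Opposite
open Groth.Agent.QC (res resO res_res res_self res_smul resO_resO app_res)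

noncomputable section

namespace Groth.Agent.ResDesc

variable {X Y : Scheme.{u}}

theorem quasiSeparatedSpace_of_hasAmpleFamily (hX : MoreMor.HasAmpleFamily X) :
    QuasiSeparatedSpace X := by
  obtain ⟨hc, h⟩ := hX
  choose L n s hL hn hx hs using h
  refine (quasiSeparatedSpace_iff_forall_affineOpens).2 fun A B => ?_
  obtain ⟨t, ht⟩ := isCompact_univ.elim_finite_subcover
    (fun x : X => ((CohB1.genLocus _ (s x) : X.Opens) : Set X)) (fun x => (CohB1.genLocus _ (s x)).2)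
    (fun x _ => Set.mem_iUnion.mpr ⟨x, hx x⟩)
  have e : (A : Set X) ∩ B = ⋃ x ∈ t, ((A.1 ⊓ CohB1.genLocus _ (s x) : X.Opens) : Set X) ∩
      ((B.1 ⊓ CohB1.genLocus _ (s x) : X.Opens) : Set X) := by
    ext y
    refine ⟨fun hy => ?_, fun hy => ?_⟩
    · obtain ⟨x, hxt, hyx⟩ := Set.mem_iUnion₂.mp (ht (Set.mem_univ y))
      exact Set.mem_iUnion₂.mpr ⟨x, hxt, ⟨hy.1, hyx⟩, ⟨hy.2, hyx⟩⟩
    · obtain ⟨x, -, h1, h2⟩ := Set.mem_iUnion₂.mp hy
      exact ⟨h1.1, h2.1⟩
  rw [e]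
  refine t.finite_toSet.isCompact_biUnion fun x _ => ?_
  have hP := TMul.isInvertible_tensorPow (hL x) (n x)
  exact (hs x).isQuasiSeparated _ _ inf_le_right (Opens.isOpen _)
    (TMul.isAffineOpen_inf_genLocus hP (s x) A.2).isCompact inf_le_right (Opens.isOpen _)
    (TMul.isAffineOpen_inf_genLocus hP (s x) B.2).isCompact

theorem hasAmpleFamily_of_isRelAmple (f : X ⟶ Y) (hY : MoreMor.HasAmpleFamily Y) (L : X.Modules)
    (hL : RelAmple.IsRelAmple f L) : MoreMor.HasAmpleFamily X := by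
  haveI := quasiSeparatedSpace_of_hasAmpleFamily hY
  obtain ⟨hc, h⟩ := hY
  haveI := hL.1
  haveI := TMul.isSeparated_of_isRelAmple hL
  haveI : CompactSpace X := QuasiCompact.compactSpace_of_compactSpace f
  haveI : QuasiSeparatedSpace X := AlgebraicGeometry.quasiSeparatedSpace_of_quasiSeparated f
  refine ⟨inferInstance, fun x => ?_⟩
  obtain ⟨K, n, σ, hK, hn, hxσ, hσ⟩ := h (f x)
  obtain ⟨a, rfl⟩ : ∃ a, n = a + 1 := ⟨n - 1, by omega⟩
  obtain ⟨b, s, hxs, hs⟩ := (hL.2 ⟨_, hσ⟩).2.2 ⟨x, hxσ⟩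
  obtain ⟨k, hk⟩ := TMul.exists_section_tensor_pow f (TMul.isInvertible_of_isRelAmple hL) hK σ s
  obtain ⟨c, t, ht⟩ := hk k le_rfl
  exact ⟨_, c + 1, t, TMul.isInvertible_tensorMod (TMul.isInvertible_of_isRelAmple hL)
    (PicLoc.isInvertible_pullback f (TMul.isInvertible_tensorPow hK k)), Nat.succ_pos _,
    ht.ge ⟨_, hxs, rfl⟩, ht ▸ hs.image_of_isOpenImmersion _⟩

theorem hasAmpleFamily_of_quasiAffine_over (f : X ⟶ Y) (hf : IsAffineHom f ∨ Mor2.IsQuasiAffine f)
    (hY : MoreMor.HasAmpleFamily Y) : MoreMor.HasAmpleFamily X := by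
  have hq : Mor2.IsQuasiAffine f := hf.elim (fun h => ⟨inferInstance, fun V hV => by
    haveI : IsAffine (f ⁻¹ᵁ V : Scheme.{u}) := (hV.preimage f)
    exact inferInstance⟩) id
  haveI := hq.1
  exact hasAmpleFamily_of_isRelAmple f hY _ (TMul.isQuasiAffine_iff_isRelAmple.mp hq)

/-- Variant of `app_eq_zero_of_gen` for a family of maps. -/
theorem app_eq_zero_of_gen_family (Q : X.Modules) {κ : Type*} (E : κ → X.Modules) {G N : X.Modules}
    (hG : Coh.IsQCoh G) (p : ∀ k, E k ⟶ G) (g : CohB1.tensorMod Q G ⟶ N)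
    (hg : ∀ k, ((DCoh.tensorBi (X := X)).obj Q).map (p k) ≫ g = 0) {D : X.Opens}
    (hD : IsAffineOpen D) (hspan : Submodule.span Γ(X, D) (⋃ k, Set.range ((p k).app D)) = ⊤)
    {W : X.Opens} (hW : W ≤ D) (s : Γ(CohB1.tensorMod Q G, W)) : g.app W s = 0 := by
  haveI : G.IsQuasicoherent := hG
  refine QC.section_eq_of_locally fun x hx => ?_
  obtain ⟨V, hV, q, hxV, hq⟩ := TMul.exists_tt s hx
  obtain ⟨f, hf, hxf⟩ := hD.exists_basicOpen_le ⟨x, hxV⟩ (hW hx)
  refine ⟨X.basicOpen f, hf.trans hV, hxf, ?_⟩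
  rw [app_res, map_zero, ← res_res _ hf hV, ← hq]
  clear hq
  induction q using TensorProduct.induction_on with
  | zero => simp
  | add a b ha hb => rw [map_add, map_add, map_add, ha, hb, add_zero]
  | tmul d t =>
    rw [TMul.tt_tmul, TMul.res_tm]
    have hmem := QC.mem_span_basicOpen hD f hspan (res G hf t)
    generalize res G hf t = w at hmem ⊢
    generalize res Q hf d = e
    induction hmem using Submodule.span_induction with
    | mem z hz =>
      obtain ⟨_, hz', rfl⟩ := hz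
      obtain ⟨k, a, rfl⟩ := Set.mem_iUnion.mp hz'
      rw [app_res (p k), ← W7Hull.map_tm Q (p k)]
      exact congrArg (fun φ : CohB1.tensorMod Q (E k) ⟶ N => φ.app (X.basicOpen f) (TMul.tm e _)) (hg k)
    | zero => rw [← TMul.tt_tmul, TensorProduct.tmul_zero, map_zero, map_zero]
    | add a b _ _ ha hb => rw [TMul.add_tm, map_add, ha, hb, add_zero]
    | smul c a _ ha => rw [TMul.tm_smul, Scheme.Modules.Hom.app_smul, ha, smul_zero]

/-- One chart, abstract version. -/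
theorem eq_zero_of_chart {Q G F : X.Modules} (hG : Coh.IsQCoh G) (γ : CohB1.tensorMod Q G ⟶ F) [Epi γ]
    {κ : Type*} (E : κ → X.Modules) (p : ∀ k, E k ⟶ G) {D : X.Opens}
    (hD : IsAffineOpen D) (hspan : Submodule.span Γ(X, D) (⋃ k, Set.range ((p k).app D)) = ⊤)
    {N : X.Modules} (h : F ⟶ N) (hh : ∀ k, (((DCoh.tensorBi (X := X)).obj Q).map (p k) ≫ γ) ≫ h = 0)
    {W : X.Opens} (hW : W ≤ D) (s : Γ(F, W)) : h.app W s = 0 := by
  refine QC.section_eq_of_locally fun x hx => ?_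
  obtain ⟨V, hV, hxV, u, hu⟩ := TMul.exists_app_eq_of_epi γ s hx
  refine ⟨V, hV, hxV, ?_⟩
  rw [app_res, map_zero, ← hu]
  exact app_eq_zero_of_gen_family Q E hG p (γ ≫ h)
    (fun k => (Category.assoc _ _ _).symm.trans (hh k)) hD hspan (hV.trans hW) u

theorem span_range_homOf {G : X.Modules} {κ : Type*} (g : κ → Γ(G, ⊤)) {D : X.Opens}
    (hgen : Submodule.span Γ(X, D) (Set.range fun k => res G (le_top : D ≤ ⊤) (g k)) = ⊤) :
    Submodule.span Γ(X, D) (⋃ k, Set.range ((TMul.homOf (g k)).app D)) = ⊤ := by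
  refine top_le_iff.mp (hgen.ge.trans (Submodule.span_mono ?_))
  rintro _ ⟨k, rfl⟩
  exact Set.mem_iUnion.mpr ⟨k, (1 : Γ(X, D)), TMul.val_homOf (g k) D⟩

theorem exists_epi_twist_back (F P : X.Modules) (hP : PicF.IsInvertible P) :
    ∃ γ : CohB1.tensorMod (RefHull.dual P) (CohB1.tensorMod F P) ⟶ F, Epi γ := by
  obtain ⟨α, hα⟩ := exists_contract P F (epi_evDual_of_isInvertible hP)
  obtain ⟨β, hβ⟩ := exists_tensorEpi (RefHull.dual P) (TMul.commIso F P).hom
  exact ⟨β ≫ α, epi_comp β α⟩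

theorem exists_map_comp {Q A G F : X.Modules} (p : A ⟶ G) (γ : CohB1.tensorMod Q G ⟶ F) :
    ∃ π : CohB1.tensorMod Q A ⟶ F, π = ((DCoh.tensorBi (X := X)).obj Q).map p ≫ γ :=
  ⟨((DCoh.tensorBi (X := X)).obj Q).map p ≫ γ, rfl⟩

/-- One chart: finitely many maps from `dual P` hitting `F` on the chart. -/
theorem exists_local_dual_maps (F : X.Modules) (hF : Coh.IsQCoh F) {P : X.Modules}
    (hP : PicF.IsInvertible P) {κ : Type*} (g : κ → Γ(CohB1.tensorMod F P, ⊤)) {D : X.Opens}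
    (hD : IsAffineOpen D)
    (hgen : Submodule.span Γ(X, D) (Set.range fun k => res (CohB1.tensorMod F P) (le_top : D ≤ ⊤) (g k)) = ⊤) :
    ∃ π : κ → (CohB1.tensorMod (RefHull.dual P) (Coh.structureModule X) ⟶ F),
      ∀ {N : X.Modules} (h : F ⟶ N), (∀ k, π k ≫ h = 0) →
        ∀ (W : X.Opens), W ≤ D → ∀ s, h.app W s = 0 := by
  haveI : F.IsQuasicoherent := hF
  obtain ⟨γ, hγ⟩ := exists_epi_twist_back F P hP
  choose π hπ using fun k => exists_map_comp (TMul.homOf (g k)) γ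
  refine ⟨π, fun {N} h hh W hW s => ?_⟩
  refine eq_zero_of_chart (TMul.isQCoh_tensor hP) γ (fun _ : κ => Coh.structureModule X)
    (fun k => TMul.homOf (g k)) hD (span_range_homOf g hgen) h (fun k => ?_) hW s
  rw [← hπ k]
  exact hh k

theorem nonempty_dual_tensor_iso {P : X.Modules} (hP : PicF.IsInvertible P) :
    Nonempty (CohB1.tensorMod (CohB1.tensorMod (RefHull.dual P) (Coh.structureModule X)) P ≅
      Coh.structureModule X) := by
  haveI := W7Hull.isIso_evDual hP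
  exact ⟨PicGrp.tensorModIso (SecTwist.unitorR _) (Iso.refl P) ≪≫ TMul.commIso _ _ ≪≫ asIso (W7Hull.evDual P)⟩

theorem exists_inAddL_epi {ι : Type u} (L : ι → X.Modules) (hL : KSix.IsAmpleFamily L) (F : X.Modules)
    (hF : Coh.IsQCoh F) (hFT : CohB1.IsFT F) :
    ∃ (M : X.Modules) (π : M ⟶ F), KSix.InAddL L M ∧ Epi π := by
  classical
  obtain ⟨hc, hq, hL, h⟩ := hL
  haveI : F.IsQuasicoherent := hF
  choose i n σ hx hσ using h
  choose k₀ hk₀ using fun x => TMul.exists_genOn_twist hFT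
    (TMul.isInvertible_tensorPow (hL (i x)) (n x + 1)) (σ x) (hσ x)
  have hP : ∀ x, PicF.IsInvertible (CohB1.tensorPow (CohB1.tensorPow (L (i x)) (n x + 1)) (k₀ x + 1)) := fun x =>
    TMul.isInvertible_tensorPow (TMul.isInvertible_tensorPow (hL (i x)) (n x + 1)) (k₀ x + 1)
  have hgl : ∀ x, ∃ (S : Finset Γ(CohB1.tensorMod F (CohB1.tensorPow (CohB1.tensorPow (L (i x)) (n x + 1)) (k₀ x + 1)), ⊤)),
      Submodule.span Γ(X, CohB1.genLocus _ (σ x)) (Set.range fun t : S =>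
        res _ (le_top : CohB1.genLocus _ (σ x) ≤ ⊤) t.1) = ⊤ := fun x => by
    have hG : (CohB1.tensorMod F (CohB1.tensorPow (CohB1.tensorPow (L (i x)) (n x + 1)) (k₀ x + 1))).IsQuasicoherent :=
      TMul.isQCoh_tensor (hP x)
    haveI := (QC.isFT_iff_finite_sections).mp (TMul.isFT_tensor (hP x) hFT) ⟨_, hσ x⟩
    have hgen := hk₀ x (k₀ x + 1) (Nat.le_succ _)
    obtain ⟨T, hT, hspan⟩ := (Submodule.fg_span_iff_fg_span_finset_subset _).1
      (show (Submodule.span Γ(X, CohB1.genLocus _ (σ x)) (Set.range (res _ (le_top : CohB1.genLocus _ (σ x) ≤ ⊤)))).FG by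
        rw [hgen]; exact Module.Finite.fg_top)
    choose g hg using fun y : T => hT y.2
    refine ⟨T.attach.image g, top_le_iff.mp (le_of_eq_of_le (hgen.symm.trans hspan) (Submodule.span_mono fun y hy => ?_))⟩
    exact ⟨⟨g ⟨y, hy⟩, by simp⟩, hg ⟨y, hy⟩⟩
  choose S hS using hgl
  choose π hπ using fun x => exists_local_dual_maps F hF (hP x) (fun t : S x => t.1) (hσ x) (hS x)
  obtain ⟨t, ht⟩ := isCompact_univ.elim_finite_subcover
    (fun x : X => ((CohB1.genLocus _ (σ x) : X.Opens) : Set X)) (fun x => (CohB1.genLocus _ (σ x)).2)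
    (fun x _ => Set.mem_iUnion.mpr ⟨x, hx x⟩)
  let J := Σ x : t, ↥(S x.1)
  let e := (Fintype.equivFin J).symm
  let N : Fin (Fintype.card J) → X.Modules := fun j => CohB1.tensorMod
    (RefHull.dual (CohB1.tensorPow (CohB1.tensorPow (L (i (e j).1.1)) (n (e j).1.1 + 1)) (k₀ (e j).1.1 + 1)))
    (Coh.structureModule X)
  have hN : ∀ j, KSix.IsNegPower L (N j) := fun j => by
    obtain ⟨e₁⟩ := TMul.nonempty_powMulIso (L (i (e j).1.1)) (n (e j).1.1 + 1) (k₀ (e j).1.1 + 1)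
    obtain ⟨e₂⟩ := nonempty_dual_tensor_iso (hP (e j).1.1)
    exact ⟨_, _, Nat.mul_pos (Nat.succ_pos _) (Nat.succ_pos _),
      ⟨PicGrp.tensorModIso (Iso.refl _) e₁.symm ≪≫ e₂⟩⟩
  refine ⟨⨁ N, biproduct.desc fun j => π (e j).1.1 (e j).2, ⟨_, N, hN, ⟨Iso.refl _⟩⟩, ?_⟩
  refine Preadditive.epi_of_cancel_zero _ fun {M} g hg => ?_
  refine Scheme.Modules.hom_ext _ _ fun W => ?_
  ext s
  refine QC.section_eq_of_locally fun x _ => ?_
  obtain ⟨y, hyt, hxy⟩ := Set.mem_iUnion₂.mp (ht (Set.mem_univ x))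
  refine ⟨W ⊓ CohB1.genLocus _ (σ y), inf_le_left, ⟨by assumption, hxy⟩, ?_⟩
  rw [app_res, app_res]
  refine (hπ y g (fun u => ?_) _ inf_le_right _).trans rfl
  have hall : ∀ j, π (e j).1.1 (e j).2 ≫ g = 0 := fun j => by
    have h' : (biproduct.ι N j ≫ biproduct.desc fun j => π (e j).1.1 (e j).2) ≫ g = 0 := by
      rw [Category.assoc, hg, comp_zero]
    rwa [biproduct.ι_desc] at h'
  have h' := hall (e.symm ⟨⟨y, hyt⟩, u⟩)
  rw [Equiv.apply_symm_apply] at h'
  exact h'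

end Groth.Agent.ResDesc
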