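import Groth.Agent.ResDesc.ResProp
import Groth.Agent.TMul.RelAmpleOps
import Groth.Agent.TMul.Pullback
import Groth.Prelude.Def_MoreMor
import Groth.Prelude.Def_LCI2

/-!
The resolution property from local generation of twists: ample families, relatively ample modules.
-/

set_option autoImplicit false
set_option backward.isDefEq.respectTransparency false

universe u

open CategoryTheory CategoryTheory.Limits AlgebraicGeometry TopologicalSpace Opposite
open Groth.Agent.QC (res resO res_res res_self res_smul resO_resO app_res)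

noncomputable section

namespace Groth.Agent.ResDesc

variable {X Y : Scheme.{u}}

/-- A map out of a tensor product killing `Q ⊗ image` vanishes where the image generates. -/
theorem app_eq_zero_of_gen (Q : X.Modules) {E G N : X.Modules} (hG : Coh.IsQCoh G) (p : E ⟶ G)
    (g : CohB1.tensorMod Q G ⟶ N) (hg : ((DCoh.tensorBi (X := X)).obj Q).map p ≫ g = 0) {D : X.Opens}
    (hD : IsAffineOpen D) (hspan : Submodule.span Γ(X, D) (Set.range (p.app D)) = ⊤) {W : X.Opens}
    (hW : W ≤ D) (s : Γ(CohB1.tensorMod Q G, W)) : g.app W s = 0 := by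
  haveI : G.IsQuasicoherent := hG
  refine QC.section_eq_of_locally fun x hx => ?_
  obtain ⟨V, hV, q, hxV, hq⟩ := TMul.exists_tt s hx
  obtain ⟨f, hf, hxf⟩ := hD.exists_basicOpen_le ⟨x, hxV⟩ (hW hx)
  refine ⟨X.basicOpen f, hf.trans hV, hxf, ?_⟩
  rw [app_res, map_zero, ← res_res _ hf hV, ← hq]
  clear hq
  induction q using TensorProduct.induction_on with
  | zero => simp
  | add a b ha hb => rw [map_add, map_add, map_add, ha, hb, add_zero]
  | tmul d t =>
    rw [TMul.tt_tmul, TMul.res_tm]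
    have hmem := QC.mem_span_basicOpen hD f hspan (res G hf t)
    generalize res G hf t = w at hmem ⊢
    generalize res Q hf d = e
    induction hmem using Submodule.span_induction with
    | mem z hz =>
      obtain ⟨_, ⟨a, rfl⟩, rfl⟩ := hz
      rw [app_res p, ← W7Hull.map_tm Q p]
      exact congrArg (fun φ : CohB1.tensorMod Q E ⟶ N => φ.app (X.basicOpen f) (TMul.tm e _)) hg
    | zero => rw [← TMul.tt_tmul, TensorProduct.tmul_zero, map_zero, map_zero]
    | add a b _ _ ha hb => rw [TMul.add_tm, map_add, ha, hb, add_zero]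
    | smul c a _ ha => rw [TMul.tm_smul, Scheme.Modules.Hom.app_smul, ha, smul_zero]

/-- One chart: a vector bundle mapping to `F` such that maps killing it vanish on the chart. -/
theorem exists_local_vb (F : X.Modules) (hF : Coh.IsQCoh F) {P E : X.Modules}
    (hP : PicF.IsInvertible P) (hE : FlatMod.IsFinLocFree E)
    (p : E ⟶ CohB1.tensorMod F P) {D : X.Opens} (hD : IsAffineOpen D)
    (hgen : Submodule.span Γ(X, D) (Set.range (p.app D)) = ⊤) :
    ∃ (V : X.Modules) (π : V ⟶ F), FlatMod.IsFinLocFree V ∧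
      ∀ {N : X.Modules} (g : F ⟶ N), π ≫ g = 0 → ∀ (W : X.Opens), W ≤ D → ∀ s, g.app W s = 0 := by
  haveI : F.IsQuasicoherent := hF
  obtain ⟨α, hα⟩ := exists_contract P F (epi_evDual_of_isInvertible hP)
  obtain ⟨β, hβ, hβ'⟩ : ∃ β : CohB1.tensorMod (RefHull.dual P) (CohB1.tensorMod F P) ⟶
      CohB1.tensorMod (RefHull.dual P) (CohB1.tensorMod P F),
      β = ((DCoh.tensorBi (X := X)).obj (RefHull.dual P)).map (TMul.commIso F P).hom ∧ Epi β :=
    ⟨_, rfl, epi_tensorMap _⟩
  refine ⟨_, ((DCoh.tensorBi (X := X)).obj (RefHull.dual P)).map p ≫ β ≫ α,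
    isFinLocFree_tensorMod (isFinLocFree_dual (isFinLocFree_of_isInvertible hP)) hE, ?_⟩
  intro N g hg W hW s
  refine QC.section_eq_of_locally fun x hx => ?_
  haveI : Epi (β ≫ α) := epi_comp _ _
  obtain ⟨V, hV, hxV, u, hu⟩ := TMul.exists_app_eq_of_epi (β ≫ α) s hx
  refine ⟨V, hV, hxV, ?_⟩
  rw [app_res, map_zero, ← hu]
  exact app_eq_zero_of_gen (RefHull.dual P) (TMul.isQCoh_tensor hP) p ((β ≫ α) ≫ g)
    (by simpa only [Category.assoc] using hg) hD hgen (hV.trans hW) u

/-- Twists generated locally by vector bundles give a surjection from a vector bundle. -/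
theorem exists_epi_of_local (F : X.Modules) (hF : Coh.IsQCoh F) {n : ℕ} (P E : Fin n → X.Modules)
    (hP : ∀ i, PicF.IsInvertible (P i)) (hE : ∀ i, FlatMod.IsFinLocFree (E i))
    (p : ∀ i, E i ⟶ CohB1.tensorMod F (P i)) (D : Fin n → X.Opens) (hD : ∀ i, IsAffineOpen (D i))
    (hcov : ∀ x : X, ∃ i, x ∈ D i)
    (hgen : ∀ i, Submodule.span Γ(X, D i) (Set.range ((p i).app (D i))) = ⊤) :
    ∃ (V : X.Modules) (π : V ⟶ F), FlatMod.IsFinLocFree V ∧ Epi π := by
  choose V π hV hπ using fun i => exists_local_vb F hF (hP i) (hE i) (p i) (hD i) (hgen i)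
  refine ⟨∐ V, Sigma.desc π, DerPerf.isFinLocFree_of_isColimit Finset.univ (coproductIsCoproduct _)
    (fun i h => absurd (Finset.mem_univ i) h) (fun i _ => hV i), ?_⟩
  refine Preadditive.epi_of_cancel_zero _ fun {N} g hg => ?_
  refine Scheme.Modules.hom_ext _ _ fun W => ?_
  ext s
  refine QC.section_eq_of_locally fun x hx => ?_
  obtain ⟨i, hxi⟩ := hcov x
  have h0 : π i ≫ g = 0 := by
    have h : (Sigma.ι V i ≫ Sigma.desc π) ≫ g = 0 := by rw [Category.assoc, hg, comp_zero]
    rwa [Sigma.ι_desc] at h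
  refine ⟨W ⊓ D i, inf_le_left, ⟨hx, hxi⟩, ?_⟩
  rw [app_res, app_res]
  exact (hπ i g h0 _ inf_le_right _).trans rfl

/-- A finite set of global sections as a map from a free module. -/
theorem exists_free_hit (G : X.Modules) (hG : Coh.IsQCoh G) (hGT : CohB1.IsFT G) {D : X.Opens}
    (hD : IsAffineOpen D) (hgen : TMul.GenOn G D) :
    ∃ (E : X.Modules) (p : E ⟶ G), FlatMod.IsFinLocFree E ∧
      Submodule.span Γ(X, D) (Set.range (p.app D)) = ⊤ := by
  classical
  haveI : G.IsQuasicoherent := hG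
  haveI := (QC.isFT_iff_finite_sections (M := G)).mp hGT ⟨D, hD⟩
  obtain ⟨S, hS, hspan⟩ := (Submodule.fg_span_iff_fg_span_finset_subset _).1
    (show (Submodule.span Γ(X, D) (Set.range (res G (le_top : D ≤ ⊤)))).FG by
      rw [hgen]; exact Module.Finite.fg_top)
  choose g hg using fun y : S => hS y.2
  let e := Fintype.equivFin S
  refine ⟨FlatMod.freeMod X (Fintype.card S), Sigma.desc fun i => TMul.homOf (g (e.symm i)),
    DerPerf.isFinLocFree_of_isColimit Finset.univ (coproductIsCoproduct _)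
      (fun i h => absurd (Finset.mem_univ i) h) (fun _ _ => isFinLocFree_structureModule X), ?_⟩
  refine top_le_iff.mp (le_of_eq_of_le (hgen.symm.trans hspan) (Submodule.span_mono fun y hy => ?_))
  let φ := Sigma.ι (fun _ : Fin (Fintype.card S) => Coh.structureModule X) (e ⟨y, hy⟩)
  refine ⟨TMul.val φ D, ?_⟩
  have h : φ ≫ (Sigma.desc fun i => TMul.homOf (g (e.symm i))) = TMul.homOf (g ⟨y, hy⟩) := by
    rw [Sigma.ι_desc, Equiv.symm_apply_apply]
  rw [← TMul.val_comp, h, TMul.val_homOf]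
  exact hg ⟨y, hy⟩

theorem hasResolutionProperty_of_hasAmpleFamily (hX : MoreMor.HasAmpleFamily X) :
    PerfAux.HasResolutionProperty X := by
  classical
  obtain ⟨hc, h⟩ := hX
  choose L n s hL hn hx hs using h
  haveI : QuasiSeparatedSpace X := (quasiSeparatedSpace_iff_forall_affineOpens).2 fun A B => by
    obtain ⟨t, ht⟩ := isCompact_univ.elim_finite_subcover
      (fun x : X => ((CohB1.genLocus _ (s x) : X.Opens) : Set X)) (fun x => (CohB1.genLocus _ (s x)).2)
      (fun x _ => Set.mem_iUnion.mpr ⟨x, hx x⟩)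
    have e : (A : Set X) ∩ B = ⋃ x ∈ t, ((A.1 ⊓ CohB1.genLocus _ (s x) : X.Opens) : Set X) ∩
        ((B.1 ⊓ CohB1.genLocus _ (s x) : X.Opens) : Set X) := by
      ext y
      refine ⟨fun hy => ?_, fun hy => ?_⟩
      · obtain ⟨x, hxt, hyx⟩ := Set.mem_iUnion₂.mp (ht (Set.mem_univ y))
        exact Set.mem_iUnion₂.mpr ⟨x, hxt, ⟨hy.1, hyx⟩, ⟨hy.2, hyx⟩⟩
      · obtain ⟨x, -, h1, h2⟩ := Set.mem_iUnion₂.mp hy
        exact ⟨h1.1, h2.1⟩
    rw [e]
    refine t.finite_toSet.isCompact_biUnion fun x _ => ?_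
    have hP := TMul.isInvertible_tensorPow (hL x) (n x)
    exact (hs x).isQuasiSeparated _ _ inf_le_right (Opens.isOpen _)
      (TMul.isAffineOpen_inf_genLocus hP (s x) A.2).isCompact inf_le_right (Opens.isOpen _)
      (TMul.isAffineOpen_inf_genLocus hP (s x) B.2).isCompact
  intro F hF hFT
  haveI : F.IsQuasicoherent := hF
  choose k hk using fun x => TMul.exists_genOn_twist hFT (TMul.isInvertible_tensorPow (hL x) (n x)) (s x) (hs x)
  have hP : ∀ x, PicF.IsInvertible (CohB1.tensorPow (CohB1.tensorPow (L x) (n x)) (k x)) := fun x =>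
    TMul.isInvertible_tensorPow (TMul.isInvertible_tensorPow (hL x) (n x)) (k x)
  choose E p hE hp using fun x => exists_free_hit _ (TMul.isQCoh_tensor (hP x))
    (TMul.isFT_tensor (hP x) hFT) (hs x) (hk x (k x) le_rfl)
  obtain ⟨t, ht⟩ := isCompact_univ.elim_finite_subcover
    (fun x : X => ((CohB1.genLocus _ (s x) : X.Opens) : Set X)) (fun x => (CohB1.genLocus _ (s x)).2)
    (fun x _ => Set.mem_iUnion.mpr ⟨x, hx x⟩)
  let e := t.equivFin.symm
  refine exists_epi_of_local F hF (fun i => CohB1.tensorPow (CohB1.tensorPow (L (e i).1) (n (e i).1)) (k (e i).1))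
    (fun i => E (e i).1) (fun i => hP _) (fun i => hE _) (fun i => p _)
    (fun i => CohB1.genLocus _ (s (e i).1)) (fun i => hs _) (fun y => ?_) fun i => hp _
  obtain ⟨x, hxt, hy⟩ := Set.mem_iUnion₂.mp (ht (Set.mem_univ y))
  refine ⟨t.equivFin ⟨x, hxt⟩, ?_⟩
  show y ∈ CohB1.genLocus _ (s (t.equivFin.symm (t.equivFin ⟨x, hxt⟩)).1)
  rw [Equiv.symm_apply_apply]; exact hy

theorem exists_hit_of_pullback (f : X ⟶ Y) [QuasiCompact f] [QuasiSeparated f] [CompactSpace Y]
    [QuasiSeparatedSpace Y] (hY : PerfAux.HasResolutionProperty Y) {G : X.Modules} (hG : Coh.IsQCoh G)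
    {V : Y.Opens} (hV : IsAffineOpen V) {D : X.Opens} (hDV : D ≤ f ⁻¹ᵁ V) (T : Finset Γ(G, f ⁻¹ᵁ V))
    (hT : Submodule.span Γ(X, D) (res G hDV '' (T : Set Γ(G, f ⁻¹ᵁ V))) = ⊤) :
    ∃ (E : X.Modules) (p : E ⟶ G), FlatMod.IsFinLocFree E ∧
      Submodule.span Γ(X, D) (Set.range (p.app D)) = ⊤ := by
  classical
  haveI : G.IsQuasicoherent := hG
  let F := (Scheme.Modules.pushforward f).obj G
  haveI hF : F.IsQuasicoherent := QC.isQCoh_pushforward f
  let S := QC.genSub (F := F) (D := V) (T : Set Γ(G, f ⁻¹ᵁ V))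
  have hS : QC.LocFinGen S V := fun x hx => ⟨V, hV, hx, le_rfl, T,
    ⟨fun t ht => QC.mem_genSub_of_mem ht, fun O _ => le_rfl⟩⟩
  obtain ⟨S', hS', hobj⟩ := QC.exists_extend_qcqs S hS hV.isCompact
  obtain ⟨hq', hft'⟩ := QC.Sub.isCoh_toModules hS'
  obtain ⟨E, π, hE, hπ⟩ := hY S'.toModules hq' hft'
  let adj := Scheme.Modules.pullbackPushforwardAdjunction f
  let p := (adj.homEquiv _ _).symm (π ≫ S'.ι)
  refine ⟨_, p, DerPerf.isFinLocFree_pullback f hE,
    top_le_iff.mp (hT ▸ Submodule.span_le.mpr ?_)⟩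
  rintro _ ⟨t, ht, rfl⟩
  have hmem : (show Γ(F, V) from t) ∈ S'.obj V := by
    rw [hobj _ le_rfl]; exact QC.mem_genSub_of_mem ht
  obtain ⟨t', ht'⟩ := (QC.Sub.range_ι_app S' V (show Γ(F, V) from t)).mpr hmem
  obtain ⟨e, he⟩ := QC.app_surjective_of_epi hV (LocFree.isQCoh_of_isFinLocFree hE) hq' π t'
  have heq : π ≫ S'.ι = adj.unit.app E ≫ (Scheme.Modules.pushforward f).map p :=
    ((adj.homEquiv _ _).apply_symm_apply _).symm.trans (adj.homEquiv_unit _ _ p)
  have ht2 : t = p.app (f ⁻¹ᵁ V) ((adj.unit.app E).app V e) := by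
    rw [← ht', ← he]
    exact congrArg (fun φ : E ⟶ F => φ.app V e) heq
  rw [ht2, app_res p]
  exact Submodule.subset_span ⟨_, rfl⟩

theorem hasResolutionProperty_of_isRelAmple (f : X ⟶ Y) [CompactSpace Y] [QuasiSeparatedSpace Y]
    (hY : PerfAux.HasResolutionProperty Y) (L : X.Modules) (hL : RelAmple.IsRelAmple f L) :
    PerfAux.HasResolutionProperty X := by
  classical
  haveI := hL.1
  haveI := TMul.isSeparated_of_isRelAmple hL
  intro F hF hFT
  haveI : F.IsQuasicoherent := hF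
  choose V hV hyV using fun y : Y => QC.exists_affine_mem y
  obtain ⟨s, hs⟩ := isCompact_univ.elim_finite_subcover (fun y : Y => (V y : Set Y)) (fun y => (V y).2)
    (fun y _ => Set.mem_iUnion.mpr ⟨y, hyV y⟩)
  have hloc : ∀ x : X, ∃ (P E : X.Modules) (p : E ⟶ CohB1.tensorMod F P) (D : X.Opens),
      PicF.IsInvertible P ∧ FlatMod.IsFinLocFree E ∧ IsAffineOpen D ∧ x ∈ D ∧
      Submodule.span Γ(X, D) (Set.range (p.app D)) = ⊤ := fun x => by
    let W := V (f x)
    let j := (f ⁻¹ᵁ W).ι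
    have hA := hL.2 ⟨W, hV (f x)⟩
    have hLi : PicF.IsInvertible L := TMul.isInvertible_of_isRelAmple hL
    have hFj : (F.restrict j).IsQuasicoherent := QC.isQCoh_restrict j hF
    obtain ⟨n, hn⟩ := TMul.exists_forall_genOn hA (F := F.restrict j) (QC.isFT_restrict j hFT)
    obtain ⟨D₀, hD₀, hxD₀, hgen⟩ := hn n le_rfl ⟨x, hyV (f x)⟩
    obtain ⟨e₁⟩ := TMul.nonempty_powCongr ((Scheme.Modules.restrictFunctorIsoPullback j).app L) n
    obtain ⟨e₂⟩ := TMul.nonempty_pullPowIso j L n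
    let P := CohB1.tensorPow L n
    let G := CohB1.tensorMod F P
    have hP : PicF.IsInvertible P := TMul.isInvertible_tensorPow hLi n
    have e : CohB1.tensorMod (F.restrict j) (CohB1.tensorPow (L.restrict j) n) ≅ G.restrict j :=
      PicGrp.tensorModIso ((Scheme.Modules.restrictFunctorIsoPullback j).app F) (e₁ ≪≫ e₂) ≪≫
        KFlat.pullTensorIso j F P ≪≫ ((Scheme.Modules.restrictFunctorIsoPullback j).app G).symm
    have hG : Coh.IsQCoh G := TMul.isQCoh_tensor hP
    have hgen' := hgen.congr e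
    let D : X.Opens := j ''ᵁ D₀
    have hDV : D ≤ f ⁻¹ᵁ W := (j.image_le_opensRange D₀).trans (Scheme.Opens.opensRange_ι _).le
    have htop : f ⁻¹ᵁ W ≤ j ''ᵁ ⊤ := fun z hz => ⟨⟨z, hz⟩, trivial, rfl⟩
    have hDa : IsAffineOpen D := hD₀.image_of_isOpenImmersion j
    haveI : G.IsQuasicoherent := hG
    haveI := (QC.isFT_iff_finite_sections (M := G)).mp (TMul.isFT_tensor hP hFT) ⟨D, hDa⟩
    have hspan : Submodule.span Γ(X, D) (Set.range (res G hDV)) = ⊤ := top_le_iff.mp fun z _ => by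
      have hz : z ∈ Submodule.span Γ((f ⁻¹ᵁ W : Scheme.{u}), D₀)
          (Set.range (res (G.restrict j) (le_top : D₀ ≤ ⊤))) := by rw [hgen']; trivial
      induction hz using Submodule.span_induction with
      | mem a ha =>
        obtain ⟨t, rfl⟩ := ha
        exact Submodule.subset_span ⟨res G htop t, res_res G _ _ _⟩
      | zero => exact Submodule.zero_mem _
      | add a b _ _ ha hb => exact Submodule.add_mem _ (ha trivial) (hb trivial)
      | smul c a _ ha => exact Submodule.smul_mem _ _ (ha trivial)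
    obtain ⟨S, hS, hS'⟩ := (Submodule.fg_span_iff_fg_span_finset_subset _).1
      (show (Submodule.span Γ(X, D) (Set.range (res G hDV))).FG by rw [hspan]; exact Module.Finite.fg_top)
    choose g hg using fun y : S => hS y.2
    obtain ⟨E, p, hE, hp⟩ := exists_hit_of_pullback f hY hG (hV (f x)) hDV (S.attach.image g)
      (top_le_iff.mp (le_of_eq_of_le (hspan.symm.trans hS') (Submodule.span_mono fun y hy =>
        ⟨g ⟨y, hy⟩, by simp, hg ⟨y, hy⟩⟩)))
    exact ⟨P, E, p, D, hP, hE, hDa, ⟨_, hxD₀, rfl⟩, hp⟩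
  choose P E p D hP hE hD hxD hp using hloc
  haveI : CompactSpace X := QuasiCompact.compactSpace_of_compactSpace f
  obtain ⟨t, ht⟩ := isCompact_univ.elim_finite_subcover (fun x : X => (D x : Set X)) (fun x => (D x).2)
    (fun x _ => Set.mem_iUnion.mpr ⟨x, hxD x⟩)
  let e := t.equivFin.symm
  refine exists_epi_of_local F hF (fun i => P (e i).1) (fun i => E (e i).1) (fun i => hP _) (fun i => hE _)
    (fun i => p _) (fun i => D (e i).1) (fun i => hD _) (fun y => ?_) fun i => hp _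
  obtain ⟨x, hxt, hy⟩ := Set.mem_iUnion₂.mp (ht (Set.mem_univ y))
  refine ⟨t.equivFin ⟨x, hxt⟩, ?_⟩
  show y ∈ D (t.equivFin.symm (t.equivFin ⟨x, hxt⟩)).1
  rw [Equiv.symm_apply_apply]; exact hy

end Groth.Agent.ResDesc
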